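import Mathlib.Topology.Spectral.ConstructibleTopology
import Mathlib.Topology.Spectral.Hom

/-!
# Quotients of spectral spaces by open maps with quasi-compact relations
-/

universe u v

open TopologicalSpace Topology Set

namespace Groth.Agent.SpecQuot

variable {U : Type u} [TopologicalSpace U]

/-- Compactness in the constructible topology. -/
def ConsCompact (E : Set U) : Prop := @IsCompact U (constructibleTopology U) E

theorem isClosed_cons_of_compact_open {W : Set U} (hW : IsOpen W) (hc : IsCompact W) :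
    IsClosed[constructibleTopology U] W := by
  rw [← @isOpen_compl_iff U]
  exact IsCompact.isOpen_constructibleTopology_of_isClosed (by rwa [compl_compl]) hW.isClosed_compl

theorem isClosed_cons_of_isClosed [PrespectralSpace U] {Z : Set U} (hZ : IsClosed Z) :
    IsClosed[constructibleTopology U] Z := by
  rw [← @isOpen_compl_iff U]
  obtain ⟨S, hS, e⟩ := PrespectralSpace.isTopologicalBasis.open_eq_sUnion hZ.isOpen_compl
  rw [e]
  exact @isOpen_sUnion _ (constructibleTopology U) _ fun t ht =>
    (hS ht).2.isOpen_constructibleTopology_of_isOpen (hS ht).1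

theorem t2Space_cons [T0Space U] [PrespectralSpace U] : @T2Space U (constructibleTopology U) := by
  refine @T2Space.mk _ (constructibleTopology U) fun x y hxy => ?_
  have aux : ∀ {x y : U}, (∃ O : Set U, IsOpen O ∧ x ∈ O ∧ y ∉ O) →
      ∃ u v : Set U, IsOpen[constructibleTopology U] u ∧ IsOpen[constructibleTopology U] v ∧
        x ∈ u ∧ y ∈ v ∧ Disjoint u v := by
    rintro x y ⟨O, hO, hx, hy⟩
    obtain ⟨W, ⟨hW, hc⟩, hxW, hWO⟩ := PrespectralSpace.isTopologicalBasis.exists_subset_of_mem_open hx hO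
    exact ⟨W, Wᶜ, hc.isOpen_constructibleTopology_of_isOpen hW,
      IsCompact.isOpen_constructibleTopology_of_isClosed (by rwa [compl_compl]) hW.isClosed_compl,
      hxW, fun h => hy (hWO h), disjoint_compl_right⟩
  obtain ⟨O, hO, h | h⟩ : ∃ O : Set U, IsOpen O ∧ ((x ∈ O ∧ y ∉ O) ∨ (y ∈ O ∧ x ∉ O)) := by
    by_contra h
    push Not at h
    refine hxy (inseparable_iff_forall_isOpen.2 fun O hO => ?_).eq
    exact ⟨(h O hO).1, (h O hO).2⟩
  · exact aux ⟨O, hO, h⟩
  · obtain ⟨u, v, hu, hv, h1, h2, hd⟩ := aux (x := y) (y := x) ⟨O, hO, h⟩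
    exact ⟨v, u, hv, hu, h2, h1, hd.symm⟩

theorem compactSpace_cons [CompactSpace U] [QuasiSober U] [PrespectralSpace U] [QuasiSeparatedSpace U] :
    @CompactSpace U (constructibleTopology U) :=
  @Function.Surjective.compactSpace (WithConstructibleTopology U) U _ (constructibleTopology U)
    WithTopology.ofTopology (WithTopology.continuous_ofTopology _) inferInstance (WithTopology.ofTopology_surjective _)

theorem consCompact_univ [CompactSpace U] [QuasiSober U] [PrespectralSpace U] [QuasiSeparatedSpace U] :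
    ConsCompact (univ : Set U) :=
  @CompactSpace.isCompact_univ U (constructibleTopology U) compactSpace_cons

/-- The image of a spectral map from a spectral space is compact in the constructible topology. -/
theorem consCompact_range {T : Type v} [TopologicalSpace T] [CompactSpace T] [QuasiSober T] [PrespectralSpace T]
    [QuasiSeparatedSpace T] {k : T → U} (hk : IsSpectralMap k) : ConsCompact (range k) := by
  have hc : Continuous[constructibleTopology T, constructibleTopology U] k := by
    refine continuous_generateFrom_iff.2 fun s hs => ?_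
    rcases hs with ⟨ho, hs⟩ | ⟨hcl, hs⟩
    · exact IsCompact.isOpen_constructibleTopology_of_isOpen (hk.isCompact_preimage_of_isOpen ho hs)
        (ho.preimage hk.continuous)
    · exact IsCompact.isOpen_constructibleTopology_of_isClosed
        (by rw [← preimage_compl]; exact hk.isCompact_preimage_of_isOpen hcl.isOpen_compl hs)
        (hcl.preimage hk.continuous)
  exact @isCompact_range T U (constructibleTopology T) (constructibleTopology U) compactSpace_cons k hc

theorem nonempty_inter_iInter {ι : Type v} {E : Set U} (hE : ConsCompact E) (S : ι → Set U)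
    (hS : ∀ i, IsClosed[constructibleTopology U] (S i)) (fin : ∀ t : Finset ι, (E ∩ ⋂ i ∈ t, S i).Nonempty) :
    (E ∩ ⋂ i, S i).Nonempty :=
  @IsCompact.inter_iInter_nonempty U (constructibleTopology U) _ ι hE S hS fin

theorem nonempty_inter_sInter {E : Set U} (hE : ConsCompact E) (ℱ : Set (Set U))
    (hS : ∀ W ∈ ℱ, IsClosed[constructibleTopology U] W)
    (fin : ∀ t : Finset (Set U), ↑t ⊆ ℱ → (E ∩ ⋂₀ ↑t).Nonempty) : (E ∩ ⋂₀ ℱ).Nonempty := by
  classical
  have := nonempty_inter_iInter hE (fun i : ℱ => (i : Set U)) (fun i => hS i i.2) fun t => by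
    obtain ⟨w, hw, hw'⟩ := fin (t.image Subtype.val) (by simp)
    refine ⟨w, hw, mem_iInter₂.2 fun i hi => hw' _ (by simp [hi])⟩
  rwa [sInter_eq_iInter]

variable [SpectralSpace U]

theorem exists_minimal {E : Set U} (hE : ConsCompact E) (hne : E.Nonempty) :
    ∃ u ∈ E, ∀ u' ∈ E, u' ⤳ u → u' = u := by
  classical
  have hz : ∀ c : Set E, IsChain (fun a b : E => (b : U) ⤳ (a : U)) c → ∃ ub : E, ∀ a ∈ c, (ub : U) ⤳ (a : U) := by
    intro c hc
    let ℱ : Set (Set U) := {W | IsOpen W ∧ IsCompact W ∧ ∃ a ∈ c, (a : U) ∈ W}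
    obtain ⟨w, hwE, hw⟩ := nonempty_inter_sInter hE ℱ (fun W hW => isClosed_cons_of_compact_open hW.1 hW.2.1)
      (fun t ht => by
        have key : ∀ s : Finset (Set U), ↑s ⊆ ℱ → s = ∅ ∨ ∃ a ∈ c, ∀ W ∈ s, (a : U) ∈ W := by
          intro s
          induction s using Finset.induction with
          | empty => exact fun _ => Or.inl rfl
          | @insert W s hW ih =>
            intro hs
            refine Or.inr ?_
            obtain ⟨hWo, -, a, ha, haW⟩ := hs (Finset.mem_insert_self W s)
            rcases ih ((Finset.coe_subset.2 (Finset.subset_insert W s)).trans hs) with rfl | ⟨b, hb, hbs⟩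
            · exact ⟨a, ha, fun V hV => by simp at hV; rw [hV]; exact haW⟩
            have hsp : (a : U) ⤳ (b : U) ∨ (b : U) ⤳ (a : U) := by
              rcases eq_or_ne a b with rfl | hne
              · exact Or.inl specializes_rfl
              · exact (hc ha hb hne).symm
            rcases hsp with h | h
            · refine ⟨a, ha, fun V hV => ?_⟩
              rcases Finset.mem_insert.1 hV with rfl | hV
              · exact haW
              · exact h.mem_open (hs (Finset.mem_insert_of_mem hV)).1 (hbs V hV)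
            · refine ⟨b, hb, fun V hV => ?_⟩
              rcases Finset.mem_insert.1 hV with rfl | hV
              · exact h.mem_open hWo haW
              · exact hbs V hV
        rcases key t ht with rfl | ⟨a, -, ha⟩
        · obtain ⟨e, he⟩ := hne
          exact ⟨e, he, by simp⟩
        · exact ⟨a, a.2, fun V hV => ha V hV⟩)
    refine ⟨⟨w, hwE⟩, fun a ha => specializes_iff_forall_open.2 fun s hs has => ?_⟩
    obtain ⟨W, ⟨hWo, hWc⟩, haW, hWs⟩ := PrespectralSpace.isTopologicalBasis.exists_subset_of_mem_open has hs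
    exact hWs (hw W ⟨hWo, hWc, a, ha, haW⟩)
  obtain ⟨m, hm⟩ := exists_maximal_of_chains_bounded hz (fun h1 h2 => h2.trans h1)
  exact ⟨m, m.2, fun u' hu' h => h.antisymm (hm ⟨u', hu'⟩ h) |>.eq⟩

variable {X : Type v} [TopologicalSpace X] {f : U → X}
  (hc : Continuous f) (ho : IsOpenMap f) (hs : Function.Surjective f)
  (hsat : ∀ V : Set U, IsOpen V → IsCompact V → IsCompact (f ⁻¹' (f '' V)))
  (hfib : ∀ u, ConsCompact (f ⁻¹' {f u}))

include hc ho hs hsat

theorem isSpectralMap_quot : IsSpectralMap f where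
  toContinuous := hc
  isCompact_preimage_of_isOpen W hW hWc := by
    obtain ⟨V, hV, e⟩ := ho.exists_opens_image_eq_of_prespectralSpace hc (hs.range_eq ▸ subset_univ _) hW hWc
    rw [← e]; exact hsat _ V.2 hV

omit hs hsat in
include hfib in
theorem exists_generization {u : U} {y : X} (hy : y ∈ range f) (h : y ⤳ f u) : ∃ v, v ⤳ u ∧ f v = y := by
  obtain ⟨v₀, rfl⟩ := hy
  let ℱ : Set (Set U) := {W | IsOpen W ∧ IsCompact W ∧ u ∈ W}
  obtain ⟨v, hv, hv'⟩ := nonempty_inter_sInter (hfib v₀) ℱ (fun W hW => isClosed_cons_of_compact_open hW.1 hW.2.1)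
    (fun t ht => by
      have hopen : IsOpen (⋂₀ (↑t : Set (Set U))) := t.finite_toSet.isOpen_sInter fun W hW => (ht hW).1
      obtain ⟨w, hw, e⟩ := h.mem_open (ho _ hopen) ⟨u, fun W hW => (ht hW).2.2, rfl⟩
      exact ⟨w, e, hw⟩)
  refine ⟨v, specializes_iff_forall_open.2 fun s hs hus => ?_, hv⟩
  obtain ⟨W, ⟨hWo, hWc⟩, huW, hWs⟩ := PrespectralSpace.isTopologicalBasis.exists_subset_of_mem_open hus hs
  exact hWs (hv' W ⟨hWo, hWc, huW⟩)

include hfib in
theorem t0Space_quot : T0Space X := by
  refine ⟨fun x y h => ?_⟩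
  obtain ⟨u₀, rfl⟩ := hs x
  obtain ⟨u, hu, hmin⟩ := exists_minimal (hfib u₀) ⟨u₀, rfl⟩
  have hu' : f u = f u₀ := hu
  obtain ⟨v, hvu, hvy⟩ := exists_generization hc ho hfib (u := u) (mem_range.2 (hs y)) (hu' ▸ h.specializes')
  obtain ⟨u', hu'v, hu'x⟩ := exists_generization hc ho hfib (u := v) (mem_range_self u₀) (hvy ▸ h.specializes)
  have e := hmin u' hu'x (hu'v.trans hvu)
  subst e
  have : u' = v := (hu'v.antisymm hvu).eq
  rw [← hvy, ← this]; exact hu'x.symm

theorem quasiSober_quot : QuasiSober X := by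
  classical
  refine ⟨fun {Z} hZ hZc => ?_⟩
  let ℱ : Set (Set U) := {A | ∃ W : Set X, IsOpen W ∧ IsCompact W ∧ (Z ∩ W).Nonempty ∧ A = f ⁻¹' W}
  have hsp := isSpectralMap_quot hc ho hs hsat
  obtain ⟨u, hu, hu'⟩ := nonempty_inter_sInter
    (E := f ⁻¹' Z) (@IsClosed.isCompact U (constructibleTopology U) _ compactSpace_cons
      (isClosed_cons_of_isClosed (hZc.preimage hc))) ℱ
    (fun A ⟨W, hW, hWc, _, e⟩ => e ▸ isClosed_cons_of_compact_open (hW.preimage hc)
      (hsp.isCompact_preimage_of_isOpen hW hWc))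
    (fun t ht => by
      choose! W hW hWc hWne hWe using fun A (hA : A ∈ t) => ht hA
      obtain ⟨z, hz, hz'⟩ := isIrreducible_iff_sInter.1 hZ (t.image W)
        (by simp only [Finset.mem_image]; rintro _ ⟨A, hA, rfl⟩; exact hW A hA)
        (by simp only [Finset.mem_image]; rintro _ ⟨A, hA, rfl⟩; exact hWne A hA)
      obtain ⟨w, rfl⟩ := hs z
      refine ⟨w, hz, fun A hA => ?_⟩
      rw [hWe A hA]
      exact hz' (W A) (by simp only [Finset.coe_image]; exact ⟨A, hA, rfl⟩))
  refine ⟨f u, isGenericPoint_iff_specializes.2 fun z => ⟨fun h => h.mem_closed hZc hu, fun hz => ?_⟩⟩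
  refine specializes_iff_forall_open.2 fun s hso hzs => ?_
  obtain ⟨w, rfl⟩ := hs z
  obtain ⟨V, ⟨hVo, hVc⟩, hwV, hVs⟩ := PrespectralSpace.isTopologicalBasis.exists_subset_of_mem_open
    (show w ∈ f ⁻¹' s from hzs) (hso.preimage hc)
  obtain ⟨w', hw', e⟩ := hu' _ ⟨f '' V, ho V hVo, hVc.image hc, ⟨f w, hz, w, hwV, rfl⟩, rfl⟩
  rw [← e]; exact hVs hw'

include hfib in
/-- A quotient of a spectral space by a quasi-compact open relation is spectral. -/
theorem spectralSpace_quot : SpectralSpace X where
  toT0Space := t0Space_quot hc ho hs hsat hfib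
  toCompactSpace := hs.compactSpace hc
  toQuasiSober := quasiSober_quot hc ho hs hsat
  toQuasiSeparatedSpace := by
    refine ⟨fun W W' hW hWc hW' hWc' => ?_⟩
    have hsp := isSpectralMap_quot hc ho hs hsat
    rw [← image_preimage_eq (W ∩ W') hs, preimage_inter]
    exact ((hsp.isCompact_preimage_of_isOpen hW hWc).inter_of_isOpen
      (hsp.isCompact_preimage_of_isOpen hW' hWc') (hW.preimage hc) (hW'.preimage hc)).image hc
  toPrespectralSpace := by
    refine ⟨isTopologicalBasis_of_isOpen_of_nhds (fun W hW => hW.1) fun x s hx hso => ?_⟩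
    obtain ⟨w, rfl⟩ := hs x
    obtain ⟨V, ⟨hVo, hVc⟩, hwV, hVs⟩ := PrespectralSpace.isTopologicalBasis.exists_subset_of_mem_open
      (show w ∈ f ⁻¹' s from hx) (hso.preimage hc)
    exact ⟨f '' V, ⟨ho V hVo, hVc.image hc⟩, ⟨w, hwV, rfl⟩, image_subset_iff.2 hVs⟩

end Groth.Agent.SpecQuot
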